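import Mathlib.LinearAlgebra.Basis.VectorSpace
import Mathlib.Algebra.Algebra.Bilinear
import Mathlib.Tactic.LinearCombination
import Mathlib.RingTheory.Ideal.Quotient.Basic
import Mathlib.Algebra.Algebra.Operations

/-!
# A subspace of codimension at most one spans everything in degree two
-/

set_option autoImplicit false

universe u v

namespace Groth.Agent.H11Span

variable {k : Type u} {B : Type v} [Field k] [CommRing B] [Algebra k B]

/-- If `V` has codimension at most one, generates the unit ideal and does not factor through a line in a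
proper quotient, then the products of two elements of `V` span `B`. -/
theorem mul_self_eq_top (V : Submodule k B) (v : B) (hco : ∀ b : B, ∃ x ∈ V, ∃ c : k, b = x + c • v)
    (hgen : Ideal.span (V : Set B) = ⊤)
    (hsep : ∀ (J : Ideal B) (a : B), (∃ a' : B, a * a' - 1 ∈ J) → (∀ x ∈ V, ∃ c : k, x - c • a ∈ J) →
      ∀ b : B, ∃ c : k, b - c • (1 : B) ∈ J) : V * V = ⊤ := by
  by_contra hne
  obtain ⟨φ, hφ0, hφ⟩ := (V * V).exists_le_ker_of_lt_top (lt_top_iff_ne_top.2 hne)
  let J : Ideal B :=
    { carrier := {x | ∀ y, φ (x * y) = 0}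
      add_mem' := fun {x x'} hx hx' y => by rw [add_mul, map_add, hx y, hx' y, add_zero]
      zero_mem' := fun y => by rw [zero_mul, map_zero]
      smul_mem' := fun c x hx y => by rw [smul_eq_mul, mul_assoc, mul_left_comm]; exact hx _ }
  have hker : ∀ x ∈ V, ∀ y ∈ V, φ (x * y) = 0 := fun x hx y hy =>
    LinearMap.mem_ker.1 (hφ (Submodule.mul_mem_mul hx hy))
  have hzero : ∀ x ∈ V, φ (x * v) = 0 → x ∈ J := fun x hx h y => by
    obtain ⟨z, hz, c, rfl⟩ := hco y
    rw [mul_add, map_add, hker x hx z hz, mul_smul_comm, map_smul, h, smul_zero, add_zero]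
  have hJ : J ≠ ⊤ := fun h => hφ0 (LinearMap.ext fun y => by
    have h1 : ∀ y, φ ((1 : B) * y) = 0 := show (1 : B) ∈ J from h ▸ trivial
    rw [← one_mul y, h1 y]; rfl)
  obtain ⟨a, ha, hav⟩ : ∃ a ∈ V, φ (a * v) = 1 := by
    by_contra h
    push Not at h
    refine hJ (eq_top_iff.2 (hgen ▸ Ideal.span_le.2 fun x hx => hzero x hx ?_))
    by_contra hxv
    refine h ((φ (x * v))⁻¹ • x) (V.smul_mem _ hx) ?_
    rw [smul_mul_assoc, map_smul, smul_eq_mul, inv_mul_cancel₀ hxv]
  have hline : ∀ x ∈ V, ∃ c : k, x - c • a ∈ J := fun x hx => ⟨φ (x * v), hzero _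
    (V.sub_mem hx (V.smul_mem _ ha))
    (by rw [sub_mul, map_sub, smul_mul_assoc, map_smul, hav, smul_eq_mul, mul_one, sub_self])⟩
  have hspan : Ideal.span (V : Set B) ≤ J ⊔ Ideal.span {a} := Ideal.span_le.2 fun x hx => by
    obtain ⟨c, hc⟩ := hline x hx
    have e : x = (x - c • a) + algebraMap k B c * a := by rw [← Algebra.smul_def, sub_add_cancel]
    rw [e]
    exact add_mem (Ideal.mem_sup_left hc)
      (Ideal.mem_sup_right (Ideal.mul_mem_left _ _ (Ideal.mem_span_singleton_self a)))
  have hu : ∃ a', a * a' - 1 ∈ J := by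
    obtain ⟨j, hj, z, hz, hjz⟩ := Submodule.mem_sup.1 (hspan (show (1 : B) ∈ Ideal.span (V : Set B) by rw [hgen]; trivial))
    obtain ⟨a', rfl⟩ := Ideal.mem_span_singleton'.1 hz
    refine ⟨a', ?_⟩
    rw [mul_comm a, show a' * a - 1 = -j by linear_combination hjz]
    exact J.neg_mem hj
  have hconst := hsep J a hu hline
  have hval : ∀ x ∈ J, φ x = 0 := fun x hx => by simpa using hx 1
  obtain ⟨c, hc⟩ := hconst a
  obtain ⟨a', ha'⟩ := hu
  have hc0 : c ≠ 0 := by
    rintro rfl
    rw [zero_smul, sub_zero] at hc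
    refine hJ ((Ideal.eq_top_iff_one J).2 ?_)
    simpa using J.sub_mem (J.mul_mem_right a' hc) ha'
  have h2 : a * a - (c * c) • (1 : B) ∈ J := by
    have e : a * a - (c * c) • (1 : B) = (a + c • (1 : B)) * (a - c • (1 : B)) := by
      simp only [Algebra.smul_def, map_mul]; ring
    rw [e]
    exact J.mul_mem_left _ hc
  have h1 : φ 1 = 0 := by
    have h3 := hval _ h2
    rw [map_sub, hker a ha a ha, map_smul, zero_sub, neg_eq_zero, smul_eq_mul] at h3
    exact (mul_eq_zero.1 h3).resolve_left (mul_ne_zero hc0 hc0)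
  refine hφ0 (LinearMap.ext fun b => ?_)
  obtain ⟨d, hd⟩ := hconst b
  have h4 := hval _ hd
  rw [map_sub, map_smul, h1, smul_zero, sub_zero] at h4
  simpa using h4

end Groth.Agent.H11Span
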