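import Groth.Prelude.Def_Twist2
import Groth.Agent.H11Span.Quadrics
import Groth.Agent.H11Ample.ToPn
import Groth.Agent.H11Proj.ClosedSubSat
import Groth.Agent.H11Proj.ProjData
import Groth.Agent.H22Alg.PnSections
import Mathlib

/-!
# Quadrics restricted to a zero-dimensional subscheme of projective space
-/

set_option autoImplicit false
set_option linter.style.haveILetI false
set_option backward.isDefEq.respectTransparency false
set_option linter.unusedSectionVars false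
set_option linter.unusedVariables false

noncomputable section

universe u

open CategoryTheory CategoryTheory.Limits AlgebraicGeometry TopologicalSpace Opposite
open Groth.Agent.H11Tilde

namespace Groth.Agent.H11Span

/-- Sections on disjoint opens covering a scheme glue. -/
theorem exists_glue_disjoint {X : Scheme.{u}} (M : X.Modules) {ι : Type} (W : ι → X.Opens)
    (hdisj : ∀ i j, i ≠ j → W i ⊓ W j = ⊥) (hcov : ∀ x : X, ∃ i, x ∈ W i) (t : ∀ i, Γ(M, W i)) :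
    ∃ s : Γ(M, ⊤), ∀ i, M.presheaf.map (homOfLE (le_top : W i ≤ ⊤)).op s = t i := by
  have hc : TopCat.Presheaf.IsCompatible M.presheaf W t := fun i j => by
    by_cases h : i = j
    · subst h; rfl
    · exact eq_of_locally _ _ fun x hx => absurd (show x ∈ (⊥ : X.Opens) from hdisj i j h ▸ hx) (by simp)
  obtain ⟨s, hs, -⟩ := TopCat.Sheaf.existsUnique_gluing' (⟨M.presheaf, M.isSheaf⟩ : TopCat.Sheaf Ab X) W ⊤
    (fun i => homOfLE le_top) (fun x _ => Opens.mem_iSup.2 (hcov x)) t hc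
  exact ⟨s, hs⟩

variable {N : ℕ} {k : Type u} [Field k]

local notation "GK" => CohB1.polyGrading N k

theorem constΓ_add_smul (σ : Fin (N + 1) → k) :
    H10Coh.Pn.psiG (d := ((1 : ℕ) : ℤ)) (∑ i, (H10Coh.Pn.constΓ (n := N) (σ i) : Γ(Proj (H10Coh.Pn.Gr N k), ⊤)) •
      (globalSec (H10Coh.Pn.Gr N k) (H11Ample.X_mem i) : Γ(H10Coh.Pn.Od N k ((1 : ℕ) : ℤ), ⊤))) =
      H10Coh.Pn.toL N k (∑ i, σ i • MvPolynomial.X i) := by
  rw [map_sum, map_sum]
  refine Finset.sum_congr rfl fun i _ => ?_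
  rw [H10Coh.Pn.psiG_smul, H22Alg.PnSections.psiG_globalSec]
  rw [MvPolynomial.X, MvPolynomial.smul_monomial, H10Coh.Pn.toL_monomial, H10Coh.Pn.toL_monomial, AddMonoidAlgebra.smul_single]

/-- Global sections of `O(1)` are combinations of the coordinates. -/
theorem exists_sum_coords (s : Γ(Twist.twistProjSpace N k 1, ⊤)) :
    ∃ σ : Fin (N + 1) → k, s = ∑ i, (ProjUP.toGlobal (CohB1.ProjSpace.toSpec N k) (σ i) :
      Γ(CohB1.ProjSpace N k, ⊤)) • (show Γ(Twist.twistProjSpace N k 1, ⊤) from ProjUP.coord N k i) := by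
  obtain ⟨m, hm, hs⟩ := H22Alg.PnSections.exists_globalSec (n := N) (R := k) s
  have hspan : m ∈ Submodule.span k (Set.range (MvPolynomial.X : Fin (N + 1) → MvPolynomial (Fin (N + 1)) k)) := by
    have := (MvPolynomial.homogeneousSubmodule_one_eq_span_X (R := k) (σ := Fin (N + 1))).le hm
    exact this
  obtain ⟨σ, hσ⟩ := (Submodule.mem_span_range_iff_exists_fun k).1 hspan
  refine ⟨σ, H10Coh.Pn.psiG_injective (d := ((1 : ℕ) : ℤ)) ?_⟩
  refine Eq.trans ?_ (constΓ_add_smul σ).symm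
  rw [hσ]
  exact (congrArg _ hs).trans (H22Alg.PnSections.psiG_globalSec hm)

theorem closure_degree_zero_one :
    Subring.closure ((CohB1.polyGrading N k 0 : Set (MvPolynomial (Fin (N + 1)) k)) ∪ (CohB1.polyGrading N k 1 : Set _)) = ⊤ := by
  refine eq_top_iff.2 fun p hp' => ?_
  clear hp'
  induction p using MvPolynomial.induction_on with
  | C c => exact Subring.subset_closure (Or.inl (MvPolynomial.isHomogeneous_C _ c))
  | add p q hp hq => exact add_mem hp hq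
  | mul_X p i hp => exact mul_mem hp (Subring.subset_closure (Or.inr (MvPolynomial.isHomogeneous_X k i)))

variable {Z : Scheme.{u}} (ι : Z ⟶ CohB1.ProjSpace N k) [IsClosedImmersion ι]

/-- The constants on `Z`. -/
def cst : k →+* Γ(Z, ⊤) := ι.appTop.hom.comp (ProjUP.toGlobal (CohB1.ProjSpace.toSpec N k))

/-- The quadratic monomial as a form of degree two. -/
theorem mulX_mem (i j : Fin (N + 1)) :
    (MvPolynomial.X i * MvPolynomial.X j : MvPolynomial (Fin (N + 1)) k) ∈ GK 2 :=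
  SetLike.mul_mem_graded (H11Ample.X_mem i) (H11Ample.X_mem j)

/-- The quadratic monomial as a section. -/
def coord₂ (i j : Fin (N + 1)) : Γ(Twist.twistProjSpace N k 2, ⊤) :=
  globalSec (CohB1.polyGrading N k) (mulX_mem i j)

theorem ratio_const {f : MvPolynomial (Fin (N + 1)) k} (hf : f ∈ GK 1) (c : k) :
    ratio GK hf (algebraMap k (GK 0) c).2 = (Proj GK).presheaf.map (homOfLE (le_top : Proj.basicOpen GK f ≤ ⊤)).op
      (ProjUP.toGlobal (CohB1.ProjSpace.toSpec N k) c) := by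
  refine fval_ext GK fun x => ?_
  rw [fval_ratio]
  exact ((H10Coh.Pn.fval_constΓ hf one_pos c x).trans
    (Localization.mk_eq_mk_iff.2 (Localization.r_iff_exists.2 ⟨1, by simp⟩))).symm

abbrev L1 : Z.Modules := (Scheme.Modules.pullback ι).obj (Twist.twistProjSpace N k 1)
abbrev L2 : Z.Modules := (Scheme.Modules.pullback ι).obj (Twist.twistProjSpace N k 2)
abbrev D (l : Fin (N + 1)) : (CohB1.ProjSpace N k).Opens :=
  Proj.basicOpen (CohB1.polyGrading N k) (MvPolynomial.X l)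

/-- The pulled back coordinate. -/
def p1 (j : Fin (N + 1)) : Γ(L1 ι, ⊤) :=
  H11Ample.pullTop ι (show Γ(Twist.twistProjSpace N k 1, ⊤) from ProjUP.coord N k j)

/-- The pulled back monomial. -/
def p2 (i j : Fin (N + 1)) : Γ(L2 ι, ⊤) := H11Ample.pullTop ι (coord₂ i j)

/-- The ratio of coordinates on a chart. -/
def rho (l j : Fin (N + 1)) : Γ(Z, ι ⁻¹ᵁ D l) :=
  ι.app (D l) (ratio GK (H11Ample.X_mem l) (H11Ample.X_mem j))

theorem isGen_p1 (l : Fin (N + 1)) :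
    IsGen (L1 ι) ((L1 ι).presheaf.map (homOfLE (le_top : ι ⁻¹ᵁ D l ≤ ⊤)).op (p1 ι l)) := by
  have h := (H11Ample.isGen_coord (n := N) (R := k) l).pullSect ι
  rw [pullSect_res] at h
  exact h

theorem p1_eq (l j : Fin (N + 1)) :
    (L1 ι).presheaf.map (homOfLE (le_top : ι ⁻¹ᵁ D l ≤ ⊤)).op (p1 ι j) =
      rho ι l j • (L1 ι).presheaf.map (homOfLE (le_top : ι ⁻¹ᵁ D l ≤ ⊤)).op (p1 ι l) := by
  refine ((pullSect_res ι _ (le_top : D l ≤ ⊤) _).symm.trans ?_).trans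
    (congrArg _ (pullSect_res ι _ (le_top : D l ≤ ⊤) _))
  refine Eq.trans (congrArg (OmegaSh.pullSect ι (Twist.twistProjSpace N k 1) (D l))
    (globalSec_eq_ratio_smul GK (H11Ample.X_mem l) (H11Ample.X_mem j))) ?_
  exact OmegaSh.pullSect_smul ι (Twist.twistProjSpace N k 1) (D l) _ _

theorem exists_partition [DiscreteTopology Z] : ∃ W : Fin (N + 1) → Z.Opens,
    (∀ l, W l ≤ ι ⁻¹ᵁ D l) ∧ (∀ l m, l ≠ m → W l ⊓ W m = ⊥) ∧ ∀ x : Z, ∃ l, x ∈ W l := by
  classical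
  refine ⟨fun l => ⟨((ι ⁻¹ᵁ D l : Z.Opens) : Set Z) \ ⋃ m, ⋃ (_ : m < l), ((ι ⁻¹ᵁ D m : Z.Opens) : Set Z),
    isOpen_discrete _⟩, fun l x hx => hx.1, fun l m hlm => ?_, fun x => ?_⟩
  · refine eq_bot_iff.2 fun x hx => ?_
    rcases lt_or_gt_of_ne hlm with h | h
    · exact (hx.2.2 (Set.mem_iUnion₂.2 ⟨l, h, hx.1.1⟩)).elim
    · exact (hx.1.2 (Set.mem_iUnion₂.2 ⟨m, h, hx.2.1⟩)).elim
  · have hne : (Finset.univ.filter fun l => x ∈ ι ⁻¹ᵁ D l).Nonempty := by
      obtain ⟨l, hl⟩ := H11Ample.exists_mem_basicOpen_X (ι x)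
      exact ⟨l, Finset.mem_filter.2 ⟨Finset.mem_univ _, hl⟩⟩
    refine ⟨(Finset.univ.filter fun l => x ∈ ι ⁻¹ᵁ D l).min' hne,
      (Finset.mem_filter.1 (Finset.min'_mem _ hne)).2, fun hx => ?_⟩
    obtain ⟨m, hm, hxm⟩ := Set.mem_iUnion₂.1 hx
    exact absurd (Finset.min'_le _ m (Finset.mem_filter.2 ⟨Finset.mem_univ _, hxm⟩)) (not_le.2 hm)

theorem exists_e1 [DiscreteTopology Z] (W : Fin (N + 1) → Z.Opens) (hWD : ∀ l, W l ≤ ι ⁻¹ᵁ D l)
    (hdisj : ∀ l m, l ≠ m → W l ⊓ W m = ⊥) (hcov : ∀ x : Z, ∃ l, x ∈ W l) :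
    ∃ (e : Γ(L1 ι, ⊤)) (r : Fin (N + 1) → Γ(Z, ⊤)), IsGen (L1 ι) e ∧ (∀ j, p1 ι j = r j • e) ∧
      ∀ l j, Z.presheaf.map (homOfLE (le_top : W l ≤ ⊤)).op (r j) =
        Z.presheaf.map (homOfLE (hWD l)).op (rho ι l j) := by
  obtain ⟨e, he⟩ := exists_glue_disjoint (L1 ι) W hdisj hcov
    fun l => (L1 ι).presheaf.map (homOfLE (le_top : W l ≤ ⊤)).op (p1 ι l)
  have hgW : ∀ l, IsGen (L1 ι) ((L1 ι).presheaf.map (homOfLE (le_top : W l ≤ ⊤)).op e) := fun l => by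
    rw [he]
    have h := (isGen_p1 ι l).res (hWD l)
    rwa [H10Coh.mres_mres] at h
  have hE : IsGen (L1 ι) e := fun y hy => by
    obtain ⟨l, hl⟩ := hcov y
    have h := hgW l y hl
    rwa [TopCat.Presheaf.germ_res_apply] at h
  choose r hr using fun j => H11Ample.exists_coeff hE (p1 ι j)
  refine ⟨e, r, hE, hr, fun l j => ((hgW l).bijective le_rfl).1 ?_⟩
  simp only [H10Coh.mres_self]
  rw [← Scheme.Modules.map_smul, ← hr, he]
  have h := congrArg ((L1 ι).presheaf.map (homOfLE (hWD l)).op) (p1_eq ι l j)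
  rw [Scheme.Modules.map_smul, H10Coh.mres_mres, H10Coh.mres_mres] at h
  exact h

theorem sqX_mem (l : Fin (N + 1)) : (MvPolynomial.X l : MvPolynomial (Fin (N + 1)) k) ^ 2 ∈ GK 2 := by
  simpa using SetLike.pow_mem_graded 2 (H11Ample.X_mem (n := N) (R := k) l)

/-- The pulled back square of a coordinate. -/
def q2 (l : Fin (N + 1)) : Γ(L2 ι, ⊤) :=
  H11Ample.pullTop ι (globalSec (CohB1.polyGrading N k) (sqX_mem l) : Γ(Twist.twistProjSpace N k 2, ⊤))

theorem isGen_q2 (l : Fin (N + 1)) :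
    IsGen (L2 ι) ((L2 ι).presheaf.map (homOfLE (le_top : ι ⁻¹ᵁ D l ≤ ⊤)).op (q2 ι l)) := by
  have h := (H11Proj.isGen_globalSec_pow GK (H11Ample.X_mem (n := N) (R := k) l) (sqX_mem l)).pullSect ι
  rw [pullSect_res] at h
  exact h

theorem p2_eq (l i j : Fin (N + 1)) :
    (L2 ι).presheaf.map (homOfLE (le_top : ι ⁻¹ᵁ D l ≤ ⊤)).op (p2 ι i j) =
      (rho ι l i * rho ι l j) • (L2 ι).presheaf.map (homOfLE (le_top : ι ⁻¹ᵁ D l ≤ ⊤)).op (q2 ι l) := by
  rw [rho, rho, ← map_mul, ← ratio_mul GK (H11Ample.X_mem l) (H11Ample.X_mem i) (H11Ample.X_mem j)]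
  refine ((pullSect_res ι _ (le_top : D l ≤ ⊤) (coord₂ i j)).symm.trans ?_).trans
    (congrArg _ (pullSect_res ι _ (le_top : D l ≤ ⊤) _))
  refine Eq.trans (congrArg (OmegaSh.pullSect ι (Twist.twistProjSpace N k 2) (D l))
    (H11Proj.globalSec_pow_eq_ratio_smul GK (H11Ample.X_mem l) (mulX_mem i j) (sqX_mem l))) ?_
  exact OmegaSh.pullSect_smul ι (Twist.twistProjSpace N k 2) (D l) _ _

theorem exists_e2 [DiscreteTopology Z] (W : Fin (N + 1) → Z.Opens) (hWD : ∀ l, W l ≤ ι ⁻¹ᵁ D l)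
    (hdisj : ∀ l m, l ≠ m → W l ⊓ W m = ⊥) (hcov : ∀ x : Z, ∃ l, x ∈ W l) (r : Fin (N + 1) → Γ(Z, ⊤))
    (hrW : ∀ l j, Z.presheaf.map (homOfLE (le_top : W l ≤ ⊤)).op (r j) =
      Z.presheaf.map (homOfLE (hWD l)).op (rho ι l j)) :
    ∃ e : Γ(L2 ι, ⊤), IsGen (L2 ι) e ∧ ∀ i j, p2 ι i j = (r i * r j) • e := by
  obtain ⟨e, he⟩ := exists_glue_disjoint (L2 ι) W hdisj hcov
    fun l => (L2 ι).presheaf.map (homOfLE (le_top : W l ≤ ⊤)).op (q2 ι l)
  have hgW : ∀ l, IsGen (L2 ι) ((L2 ι).presheaf.map (homOfLE (le_top : W l ≤ ⊤)).op e) := fun l => by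
    rw [he]
    have h := (isGen_q2 ι l).res (hWD l)
    rwa [H10Coh.mres_mres] at h
  refine ⟨e, fun y hy => ?_, fun i j => eq_of_locally _ _ fun x _ => ?_⟩
  · obtain ⟨l, hl⟩ := hcov y
    have h := hgW l y hl
    rwa [TopCat.Presheaf.germ_res_apply] at h
  · obtain ⟨l, hl⟩ := hcov x
    refine ⟨W l, le_top, hl, ?_⟩
    rw [Scheme.Modules.map_smul, map_mul, hrW, hrW, he, ← map_mul]
    have h := congrArg ((L2 ι).presheaf.map (homOfLE (hWD l)).op) (p2_eq ι l i j)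
    rw [Scheme.Modules.map_smul, H10Coh.mres_mres, H10Coh.mres_mres] at h
    exact h

variable {e : Γ(L1 ι, ⊤)} (he : IsGen (L1 ι) e) {r : Fin (N + 1) → Γ(Z, ⊤)} (hr : ∀ j, p1 ι j = r j • e)
include he hr

theorem preimage_D (i : Fin (N + 1)) : ι ⁻¹ᵁ D i = Z.basicOpen (r i) := by
  have h := H11Ample.gen_inf_eq_basicOpen he (p1 ι i) (r i) (by rw [H10Coh.mres_self]; exact hr i)
  rw [inf_top_eq] at h
  rw [← h]
  have h2 := H11Ample.gen_smul_pullSect ι (H11Ample.isInvertible_twist (n := N) (R := k))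
    (show Γ(Twist.twistProjSpace N k 1, ⊤) from ProjUP.coord N k i) (isUnit_one (M := Γ(Z, ⊤)))
  rw [one_smul, H11Ample.gen_coord] at h2
  exact h2.symm

theorem span_r_eq_top [IsAffine Z] : Ideal.span (Set.range r) = ⊤ := by
  refine (((isAffineOpen_top Z).iSup_basicOpen_eq_self_iff (s := Set.range r)).1 (top_unique fun x _ => ?_))
  obtain ⟨l, hl⟩ := H11Ample.exists_mem_basicOpen_X (ι x)
  exact Opens.mem_iSup.2 ⟨⟨_, l, rfl⟩, (preimage_D ι he hr l).le hl⟩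

/-- No quotient of the functions of `Z` sees all coordinates as proportional, unless it is the constants. -/
theorem separates [IsAffine Z] (J : Ideal Γ(Z, ⊤)) (a : Γ(Z, ⊤)) (hu : ∃ a', a * a' - 1 ∈ J)
    (c : Fin (N + 1) → k) (hc : ∀ j, r j - cst ι (c j) * a ∈ J) (b : Γ(Z, ⊤)) :
    ∃ d : k, b - cst ι d ∈ J := by
  obtain ⟨a', ha'⟩ := hu
  by_cases hall : ∀ j, c j = 0
  · refine ⟨0, ?_⟩
    have hJ : J = ⊤ := top_unique (by
      rw [← span_r_eq_top ι he hr, Ideal.span_le]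
      rintro _ ⟨j, rfl⟩
      simpa [hall j] using hc j)
    rw [hJ]; trivial
  push Not at hall
  obtain ⟨i, hi⟩ := hall
  let π := Ideal.Quotient.mk J
  let qc : k →+* Γ(Z, ⊤) ⧸ J := π.comp (cst ι)
  have hπr : ∀ j, π (r j) = qc (c j) * π a := fun j => by
    rw [RingHom.comp_apply, ← map_mul]
    exact Ideal.Quotient.eq.2 (hc j)
  have hua : IsUnit (π a) := IsUnit.of_mul_eq_one (π a') (by
    rw [← map_mul, ← map_one π]; exact Ideal.Quotient.eq.2 ha')
  have hui : IsUnit (π (r i)) := by rw [hπr]; exact ((isUnit_iff_ne_zero.2 hi).map qc).mul hua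
  have hbas := preimage_D ι he hr i
  letI := (Z.presheaf.map (homOfLE (le_top : Z.basicOpen (r i) ≤ ⊤)).op).hom.toAlgebra
  haveI : IsLocalization.Away (r i) Γ(Z, Z.basicOpen (r i)) := (isAffineOpen_top Z).isLocalization_basicOpen (r i)
  let lift : Γ(Z, Z.basicOpen (r i)) →+* Γ(Z, ⊤) ⧸ J := IsLocalization.Away.lift (S := Γ(Z, Z.basicOpen (r i))) (r i) hui
  let lift' : Γ(Z, ι ⁻¹ᵁ D i) →+* Γ(Z, ⊤) ⧸ J :=
    lift.comp (Z.presheaf.map (homOfLE hbas.ge).op).hom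
  have hlift : ∀ z, lift' (Z.presheaf.map (homOfLE (le_top : ι ⁻¹ᵁ D i ≤ ⊤)).op z) = π z := fun z => by
    refine Eq.trans ?_ (IsLocalization.Away.lift_eq (S := Γ(Z, Z.basicOpen (r i))) (r i) hui z)
    show lift (Z.presheaf.map _ (Z.presheaf.map _ z)) = lift _
    refine congrArg lift ?_
    erw [← ConcreteCategory.comp_apply, ← Functor.map_comp]
    rfl
  let φ : Γ(CohB1.ProjSpace N k, D i) →+* Γ(Z, ⊤) ⧸ J := lift'.comp (ι.app (D i)).hom
  have hconst : ∀ d, φ (ratio GK (H11Ample.X_mem i) (algebraMap k (GK 0) d).2) = qc d := fun d => by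
    rw [ratio_const]
    refine Eq.trans ?_ (hlift (cst ι d))
    refine congrArg lift' ?_
    exact congr($(ι.naturality (homOfLE (le_top : D (k := k) i ≤ ⊤)).op)
      (ProjUP.toGlobal (CohB1.ProjSpace.toSpec N k) d))
  have hratio : ∀ j, φ (ratio GK (H11Ample.X_mem i) (H11Ample.X_mem j)) = qc (c j * (c i)⁻¹) := fun j => by
    have h := p1_eq ι i j
    rw [hr j, hr i, Scheme.Modules.map_smul, Scheme.Modules.map_smul, smul_smul] at h
    have h2 := (he.bijective (le_top : ι ⁻¹ᵁ D i ≤ ⊤)).1 h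
    have h3 := congrArg lift' h2
    rw [map_mul, hlift, hlift] at h3
    have h4 : φ (ratio GK (H11Ample.X_mem i) (H11Ample.X_mem j)) * π (r i) = qc (c j * (c i)⁻¹) * π (r i) := by
      rw [hπr i, ← mul_assoc (qc _), ← map_mul, inv_mul_cancel_right₀ hi, ← hπr i, ← hπr j, h3]
      rfl
    exact hui.mul_right_cancel h4
  have hφ : ∀ y, φ y ∈ qc.range := fun y => by
    have hy : y ∈ (⊤ : Subring _) := trivial
    rw [← H11Proj.closure_ratio_eq_top GK (CommRingCat.ofHom (algebraMap k (GK 0))) MvPolynomial.X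
      H11Ample.X_mem (closure_degree_zero_one (N := N) (k := k)) (fun x hx => ?_) (H11Ample.X_mem i)] at hy
    · refine (Subring.closure_le (t := qc.range.comap φ)).2 ?_ hy
      rintro z (⟨d, rfl⟩ | ⟨j, rfl⟩)
      · exact ⟨d, (hconst d).symm⟩
      · exact ⟨_, (hratio j).symm⟩
    · obtain ⟨σ, hσ⟩ := (Submodule.mem_span_range_iff_exists_fun k).1
        ((MvPolynomial.homogeneousSubmodule_one_eq_span_X (R := k) (σ := Fin (N + 1))).le hx)
      exact ⟨σ, hσ.symm.trans (Finset.sum_congr rfl fun _ _ => Algebra.smul_def _ _)⟩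
  obtain ⟨y, hy⟩ := ι.app_surjective _ (Proj.isAffineOpen_basicOpen GK _ (H11Ample.X_mem i) one_pos)
    (Z.presheaf.map (homOfLE (le_top : ι ⁻¹ᵁ D i ≤ ⊤)).op b)
  obtain ⟨d, hd⟩ := hφ y
  refine ⟨d, Ideal.Quotient.eq.1 (Eq.trans ?_ hd.symm)⟩
  show π b = lift' (ι.app (D i) y)
  rw [hy, hlift]

omit he hr

theorem restrict_quadrics_surjective [IsAffine Z] [DiscreteTopology Z]
    (v : Γ(L1 ι, ⊤))
    (hv : ∀ t : Γ(L1 ι, ⊤),
      ∃ (s : Γ(Twist.twistProjSpace N k 1, ⊤)) (c : k), t = H11Ample.pullTop ι s + cst ι c • v)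
    (t : Γ(L2 ι, ⊤)) :
    ∃ s : Γ(Twist.twistProjSpace N k 2, ⊤), H11Ample.pullTop ι s = t := by
  obtain ⟨W, hWD, hdisj, hcov⟩ := exists_partition ι
  obtain ⟨e, r, he, hr, hrW⟩ := exists_e1 ι W hWD hdisj hcov
  obtain ⟨e', he', hr'⟩ := exists_e2 ι W hWD hdisj hcov r hrW
  letI : Algebra k Γ(Z, ⊤) := (cst ι).toAlgebra
  have halg : ∀ c : k, algebraMap k Γ(Z, ⊤) c = cst ι c := fun _ => rfl
  let V : Submodule k Γ(Z, ⊤) := Submodule.span k (Set.range r)
  have hrV : ∀ j, r j ∈ V := fun j => Submodule.subset_span ⟨j, rfl⟩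
  obtain ⟨v', hv'⟩ := H11Ample.exists_coeff he v
  have hco : ∀ b, ∃ x ∈ V, ∃ c : k, b = x + c • v' := fun b => by
    obtain ⟨s, c, hs⟩ := hv (b • e)
    obtain ⟨σ, rfl⟩ := exists_sum_coords s
    refine ⟨∑ i, σ i • r i, Submodule.sum_mem _ fun i _ => V.smul_mem _ (hrV i), c, ?_⟩
    refine (he.bijective le_rfl).1 ?_
    simp only [H10Coh.mres_self]
    rw [hs, add_smul, Finset.sum_smul, Algebra.smul_def c, halg, mul_smul, ← hv']
    refine congrArg (· + cst ι c • v) ?_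
    refine (map_sum (((Scheme.Modules.pullbackPushforwardAdjunction ι).unit.app
      (Twist.twistProjSpace N k 1)).app ⊤).hom _ _).trans ?_
    refine Finset.sum_congr rfl fun i _ => ?_
    rw [Algebra.smul_def, halg, mul_smul, ← hr]
    exact OmegaSh.pullSect_smul ι (Twist.twistProjSpace N k 1) ⊤ _ _
  have hgenV : Ideal.span (V : Set Γ(Z, ⊤)) = ⊤ :=
    top_unique ((span_r_eq_top ι he hr).ge.trans (Ideal.span_mono (Set.range_subset_iff.2 hrV)))
  have hsep : ∀ (J : Ideal Γ(Z, ⊤)) (a : Γ(Z, ⊤)), (∃ a', a * a' - 1 ∈ J) →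
      (∀ x ∈ V, ∃ c : k, x - c • a ∈ J) → ∀ b, ∃ c : k, b - c • (1 : Γ(Z, ⊤)) ∈ J := by
    intro J a hu hline b
    choose c hc using fun j => hline (r j) (hrV j)
    obtain ⟨d, hd⟩ := separates ι he hr J a hu c (fun j => by rw [← halg, ← Algebra.smul_def]; exact hc j) b
    exact ⟨d, by rw [Algebra.smul_def, mul_one]; exact hd⟩
  have htop := mul_self_eq_top V v' hco hgenV hsep
  obtain ⟨b, rfl⟩ := H11Ample.exists_coeff he' t
  have hb : b ∈ Submodule.span k (Set.range fun p : Fin (N + 1) × Fin (N + 1) => r p.1 * r p.2) := by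
    have hbV : b ∈ V * V := by rw [htop]; trivial
    rw [Submodule.span_mul_span] at hbV
    refine Submodule.span_mono ?_ hbV
    rintro z ⟨_, ⟨i, rfl⟩, _, ⟨j, rfl⟩, rfl⟩
    exact ⟨(i, j), rfl⟩
  obtain ⟨σ, rfl⟩ := (Submodule.mem_span_range_iff_exists_fun k).1 hb
  refine ⟨∑ p, (ProjUP.toGlobal (CohB1.ProjSpace.toSpec N k) (σ p) : Γ(CohB1.ProjSpace N k, ⊤)) • coord₂ p.1 p.2, ?_⟩
  refine (map_sum (((Scheme.Modules.pullbackPushforwardAdjunction ι).unit.app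
    (Twist.twistProjSpace N k 2)).app ⊤).hom _ _).trans ?_
  rw [Finset.sum_smul]
  refine Finset.sum_congr rfl fun p _ => ?_
  rw [Algebra.smul_def, halg, mul_smul, ← hr']
  exact OmegaSh.pullSect_smul ι (Twist.twistProjSpace N k 2) ⊤ _ _

end Groth.Agent.H11Span
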